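/-
Element orders in `GL(n, q)` and `PSL(n, q)` through the irreducible factors of minimal polynomials:
a prime dividing the order of a matrix forces a factor whose degree is a multiple of the order of `q`
modulo that prime.
-/
import Mathlib
import Cfsg.Agent.Lib.KnownSimple.PSLSpectrum
import Cfsg.Agent.Lib.Classical.GLOrder

set_option autoImplicit false

namespace CfsgLib.PrimeGraphPSL

open Polynomial

section Zmod

theorem orderOf_natCast_dvd_iff {q r j : ℕ} (hq : 1 ≤ q) :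
    orderOf (q : ZMod r) ∣ j ↔ r ∣ q ^ j - 1 := by
  rw [orderOf_dvd_iff_pow_eq_one, ← ZMod.natCast_eq_zero_iff, Nat.cast_sub (Nat.one_le_pow _ _ hq),
    Nat.cast_pow, Nat.cast_one, sub_eq_zero]

theorem orderOf_natCast_pos {q r : ℕ} (hr : r.Prime) (h : ¬ r ∣ q) : 0 < orderOf (q : ZMod r) := by
  haveI := Fact.mk hr
  refine IsOfFinOrder.orderOf_pos (isOfFinOrder_iff_pow_eq_one.2 ⟨r - 1, by have := hr.one_lt; omega, ?_⟩)
  exact ZMod.pow_card_sub_one_eq_one fun h0 => h ((ZMod.natCast_eq_zero_iff _ _).1 h0)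

theorem orderOf_natCast_eq_one {q r : ℕ} (hq : 1 ≤ q) : orderOf (q : ZMod r) = 1 ↔ r ∣ q - 1 := by
  rw [← Nat.dvd_one, orderOf_natCast_dvd_iff hq, pow_one]

end Zmod

section Factors

variable {F : Type*} [Field F]

/-- A polynomial all of whose irreducible factors divide `h` divides a power of `h`. -/
theorem exists_dvd_pow {m h : F[X]} (hm : m ≠ 0)
    (H : ∀ f : F[X], Irreducible f → f ∣ m → f ∣ h) : ∃ N : ℕ, m ∣ h ^ N := by
  induction m using UniqueFactorizationMonoid.induction_on_prime with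
  | h₁ => exact absurd rfl hm
  | h₂ x hx => exact ⟨0, hx.dvd⟩
  | h₃ a p ha hp ih =>
    obtain ⟨N, hN⟩ := ih ha fun f hf hfa => H f hf (hfa.mul_left p)
    exact ⟨N + 1, pow_succ' h N ▸ mul_dvd_mul (H p hp.irreducible (dvd_mul_right p a)) hN⟩

variable {n : ℕ}

/-- A matrix of order prime to the characteristic which is scalar plus nilpotent is scalar. -/
theorem eq_scalar {A : Matrix (Fin n) (Fin n) F} {m N : ℕ} {b : F} (hm : (m : F) ≠ 0)
    (hA : A ^ m = 1) (hN : (A - b • 1) ^ N = 0) : A = b • 1 := by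
  have hm0 : m ≠ 0 := fun h => hm (by rw [h, Nat.cast_zero])
  have h1 : minpoly F A ∣ X ^ m - C 1 := minpoly.dvd F A (by simp [hA])
  have hsq : Squarefree (minpoly F A) :=
    ((separable_X_pow_sub_C (1 : F) hm one_ne_zero).squarefree).squarefree_of_dvd h1
  have h2 : minpoly F A ∣ (X - C b) ^ N := minpoly.dvd F A (by
    rw [map_pow, map_sub, aeval_X, aeval_C, Algebra.algebraMap_eq_smul_one, hN])
  obtain ⟨c, hc⟩ := hsq.isRadical N _ h2
  have := congrArg (aeval A) hc
  rw [map_mul, minpoly.aeval, zero_mul, map_sub, aeval_X, aeval_C, Algebra.algebraMap_eq_smul_one,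
    sub_eq_zero] at this
  exact this

theorem natDegree_minpoly_le (A : Matrix (Fin n) (Fin n) F) : (minpoly F A).natDegree ≤ n := by
  refine (natDegree_le_of_dvd (Matrix.minpoly_dvd_charpoly A) (Matrix.charpoly_monic A).ne_zero).trans ?_
  rw [Matrix.charpoly_natDegree_eq_dim, Fintype.card_fin]

variable [Fintype F]

/-- If a prime divides the multiplicative order of a root of an irreducible polynomial, the degree is
a multiple of the order of `q` modulo this prime. -/
theorem orderOf_dvd_natDegree {f : F[X]} [Fact (Irreducible f)] {r : ℕ} (hroot : AdjoinRoot.root f ≠ 0)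
    (hr : r ∣ orderOf (AdjoinRoot.root f)) :
    orderOf ((Fintype.card F : ℕ) : ZMod r) ∣ f.natDegree := by
  have hf : f ≠ 0 := (Fact.out : Irreducible f).ne_zero
  let pb := AdjoinRoot.powerBasis hf
  haveI : Module.Finite F (AdjoinRoot f) := pb.finite
  haveI : Finite (AdjoinRoot f) := Module.finite_of_finite F
  letI : Fintype (AdjoinRoot f) := Fintype.ofFinite _
  have hcard : Fintype.card (AdjoinRoot f) = Fintype.card F ^ f.natDegree := by
    rw [Module.card_eq_pow_finrank (K := F), pb.finrank, AdjoinRoot.powerBasis_dim]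
  rw [orderOf_natCast_dvd_iff Fintype.card_pos, ← hcard]
  exact hr.trans (orderOf_dvd_of_pow_eq_one (FiniteField.pow_card_sub_one_eq_one _ hroot))

/-- A prime other than the characteristic dividing the order of a matrix divides the order of a root of
a factor of the minimal polynomial. -/
theorem exists_factor {A : Matrix (Fin n) (Fin n) F} {r : ℕ} (hr : r.Prime) (hrF : (r : F) ≠ 0)
    (h0 : 0 < orderOf A) (hdvd : r ∣ orderOf A) :
    ∃ f : F[X], Irreducible f ∧ f ∣ minpoly F A ∧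
      orderOf ((Fintype.card F : ℕ) : ZMod r) ∣ f.natDegree ∧ 0 < f.natDegree ∧ ¬ f ∣ X - C 1 := by
  by_contra hcon
  push_neg at hcon
  obtain ⟨e, o', ho', ho⟩ := Nat.exists_eq_pow_mul_and_not_dvd h0.ne' r hr.ne_one
  have hA : A ^ orderOf A = 1 := pow_orderOf_eq_one A
  have hall : ∀ f : F[X], Irreducible f → f ∣ minpoly F A → f ∣ X ^ o' - C 1 := by
    intro f hf hfm
    haveI := Fact.mk hf
    have hfo : f ∣ X ^ orderOf A - C 1 := hfm.trans (minpoly.dvd F A (by simp [hA]))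
    rw [← AdjoinRoot.mk_eq_zero] at hfo ⊢
    simp only [map_sub, map_pow, AdjoinRoot.mk_X, map_one, sub_eq_zero] at hfo ⊢
    have hord : orderOf (AdjoinRoot.root f) ∣ r ^ e * o' := ho ▸ orderOf_dvd_of_pow_eq_one hfo
    by_cases hrd : r ∣ orderOf (AdjoinRoot.root f)
    · have hroot : AdjoinRoot.root f ≠ 0 := fun h => by
        rw [h, zero_pow h0.ne'] at hfo
        exact zero_ne_one hfo
      have h1 := hcon f hf hfm (orderOf_dvd_natDegree hroot hrd) hf.natDegree_pos
      rw [← AdjoinRoot.mk_eq_zero] at h1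
      simp only [map_sub, AdjoinRoot.mk_X, map_one, sub_eq_zero] at h1
      rw [h1, one_pow]
    · have hc : (orderOf (AdjoinRoot.root f)).Coprime (r ^ e) :=
        ((hr.coprime_iff_not_dvd).2 hrd).symm.pow_right _
      exact orderOf_dvd_iff_pow_eq_one.1 (hc.dvd_of_dvd_mul_left hord)
  haveI : Module.Finite F (Matrix (Fin n) (Fin n) F) := inferInstance
  obtain ⟨N, hN⟩ := exists_dvd_pow (minpoly.ne_zero (Algebra.IsIntegral.isIntegral A)) hall
  obtain ⟨c, hc⟩ := hN
  have hnil := congrArg (aeval A) hc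
  rw [map_mul, minpoly.aeval, zero_mul, map_pow, map_sub, map_pow, aeval_X, aeval_C, map_one] at hnil
  have h1 : A ^ o' = (1 : F) • 1 := eq_scalar (m := r ^ e) (by rw [Nat.cast_pow]; exact pow_ne_zero _ hrF)
    (by rw [← pow_mul, mul_comm, ← ho, hA]) (by rw [one_smul]; exact hnil)
  rw [one_smul] at h1
  rcases Nat.eq_zero_or_pos o' with h | h
  · exact ho' (h ▸ dvd_zero r)
  · exact ho' (hdvd.trans (orderOf_dvd_of_pow_eq_one h1))

/-- Distinct irreducible factors add their degrees. -/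
theorem natDegree_add_le {m f h : F[X]} (hm : m ≠ 0) (hf : Irreducible f) (hfm : f ∣ m) (hhm : h ∣ m)
    (hfh : ¬ f ∣ h) : f.natDegree + h.natDegree ≤ m.natDegree := by
  have hd : f * h ∣ m := (hf.coprime_iff_not_dvd.2 hfh).mul_dvd hfm hhm
  have hh : h ≠ 0 := fun e => hm (zero_dvd_iff.1 (e ▸ hhm))
  rw [← natDegree_mul hf.ne_zero hh]
  exact natDegree_le_of_dvd hd hm

/-- Two primes dividing the order of a semisimple matrix. -/
theorem degree_bound_two {A : Matrix (Fin n) (Fin n) F} {r s : ℕ} (hr : r.Prime) (hs : s.Prime)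
    (hrF : (r : F) ≠ 0) (hsF : (s : F) ≠ 0) (ho : orderOf A = r * s) :
    orderOf ((Fintype.card F : ℕ) : ZMod r) + orderOf ((Fintype.card F : ℕ) : ZMod s) ≤ n ∨
      ∃ d, 0 < d ∧ d ≤ n ∧ orderOf ((Fintype.card F : ℕ) : ZMod r) ∣ d ∧
        orderOf ((Fintype.card F : ℕ) : ZMod s) ∣ d := by
  have hpos : 0 < orderOf A := ho ▸ Nat.mul_pos hr.pos hs.pos
  obtain ⟨f, hf, hfm, hfd, hfp, -⟩ := exists_factor hr hrF hpos (ho ▸ dvd_mul_right r s)
  obtain ⟨g, hg, hgm, hgd, hgp, -⟩ := exists_factor hs hsF hpos (ho ▸ dvd_mul_left s r)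
  have hm : minpoly F A ≠ 0 := minpoly.ne_zero (Algebra.IsIntegral.isIntegral A)
  by_cases hfg : f ∣ g
  · refine Or.inr ⟨g.natDegree, hgp, (natDegree_le_of_dvd hgm hm).trans (natDegree_minpoly_le A), ?_, hgd⟩
    rwa [← natDegree_eq_of_degree_eq (degree_eq_degree_of_associated (hf.associated_of_dvd hg hfg))]
  · refine Or.inl ?_
    have := (natDegree_add_le hm hf hfm hgm hfg).trans (natDegree_minpoly_le A)
    have := Nat.le_of_dvd hfp hfd
    have := Nat.le_of_dvd hgp hgd
    omega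

/-- A prime and the characteristic dividing the order of a matrix. -/
theorem degree_bound_char {A : Matrix (Fin n) (Fin n) F} {r p : ℕ} [Fact p.Prime] [CharP F p] (hr : r.Prime)
    (hrF : (r : F) ≠ 0) (ho : orderOf A = r * p) :
    ∃ f h : F[X], Irreducible f ∧ Irreducible h ∧ f ∣ minpoly F A ∧ h * h ∣ minpoly F A ∧
      orderOf ((Fintype.card F : ℕ) : ZMod r) ∣ f.natDegree ∧ 0 < f.natDegree ∧ ¬ f ∣ X - C 1 ∧
      (¬ f ∣ h → f.natDegree + 2 * h.natDegree ≤ n) ∧ 2 * h.natDegree ≤ n := by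
  have hp := (Fact.out : p.Prime)
  have hpos : 0 < orderOf A := ho ▸ Nat.mul_pos hr.pos hp.pos
  obtain ⟨f, hf, hfm, hfd, hfp, hf1⟩ := exists_factor hr hrF hpos (ho ▸ dvd_mul_right r p)
  have hm : minpoly F A ≠ 0 := minpoly.ne_zero (Algebra.IsIntegral.isIntegral A)
  have hns : ¬ Squarefree (minpoly F A) := by
    intro hsq
    have h1 : minpoly F A ∣ (X ^ r - C 1) ^ p := minpoly.dvd F A (by
      haveI : Nonempty (Fin n) := by
        rcases Nat.eq_zero_or_pos n with rfl | h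
        · have h0 : A = 1 := Subsingleton.elim _ _
          rw [h0, orderOf_one] at ho
          exact absurd (Nat.eq_one_of_mul_eq_one_right ho.symm) hr.ne_one
        · exact ⟨⟨0, h⟩⟩
      rw [map_pow, map_sub, map_pow, aeval_X, aeval_C, map_one,
        sub_pow_char_of_commute (p := p) (h := Commute.one_right _), one_pow, ← pow_mul, ← ho, pow_orderOf_eq_one,
        sub_self])
    obtain ⟨c, hc⟩ := hsq.isRadical p _ h1
    have h2 := congrArg (aeval A) hc
    rw [map_mul, minpoly.aeval, zero_mul, map_sub, map_pow, aeval_X, aeval_C, map_one, sub_eq_zero] at h2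
    have h3 := orderOf_dvd_of_pow_eq_one h2
    rw [ho] at h3
    have h4 := Nat.le_of_dvd hr.pos h3
    have := hr.pos; have := hp.two_le
    nlinarith
  rw [squarefree_iff_irreducible_sq_not_dvd_of_ne_zero hm] at hns
  push_neg at hns
  obtain ⟨h, hh, hhm⟩ := hns
  have hdeg : 2 * h.natDegree ≤ n := by
    have := (natDegree_le_of_dvd hhm hm).trans (natDegree_minpoly_le A)
    rw [natDegree_mul hh.ne_zero hh.ne_zero] at this
    omega
  refine ⟨f, h, hf, hh, hfm, hhm, hfd, hfp, hf1, fun hfh => ?_, hdeg⟩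
  have hfhh : ¬ f ∣ h * h := fun e => (hf.prime.dvd_or_dvd e).elim hfh hfh
  have := (natDegree_add_le hm hf hfm hhm hfhh).trans (natDegree_minpoly_le A)
  rw [natDegree_mul hh.ne_zero hh.ne_zero] at this
  omega

end Factors

section Lift

variable {G : Type*} [Group G] [Finite G] (Z : Subgroup G) [Z.Normal]

theorem orderOf_mk_of_coprime {x : G} (h : (orderOf x).Coprime (Nat.card Z)) :
    orderOf (x : G ⧸ Z) = orderOf x := by
  refine Nat.dvd_antisymm (orderOf_map_dvd (QuotientGroup.mk' Z) x) ?_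
  have h1 : x ^ orderOf (x : G ⧸ Z) ∈ Z := by
    rw [← QuotientGroup.eq_one_iff, QuotientGroup.mk_pow, pow_orderOf_eq_one]
  have h2 : x ^ (orderOf (x : G ⧸ Z) * Nat.card Z) = 1 := by
    rw [pow_mul]
    exact congrArg Subtype.val (pow_card_eq_one' (x := (⟨_, h1⟩ : Z)))
  exact h.dvd_of_dvd_mul_right (orderOf_dvd_of_pow_eq_one h2)

theorem exists_lift_orderOf {y : G ⧸ Z} (h : (orderOf y).Coprime (Nat.card Z)) :
    ∃ x : G, orderOf x = orderOf y := by
  obtain ⟨x, rfl⟩ := QuotientGroup.mk_surjective y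
  refine ⟨x ^ Nat.card Z, Nat.dvd_antisymm ?_ ?_⟩
  · rw [orderOf_dvd_iff_pow_eq_one, ← pow_mul, mul_comm, pow_mul]
    have h1 : x ^ orderOf (x : G ⧸ Z) ∈ Z := by
      rw [← QuotientGroup.eq_one_iff, QuotientGroup.mk_pow, pow_orderOf_eq_one]
    exact congrArg Subtype.val (pow_card_eq_one' (x := (⟨_, h1⟩ : Z)))
  · have h1 := orderOf_map_dvd (QuotientGroup.mk' Z) (x ^ Nat.card Z)
    rwa [map_pow, QuotientGroup.mk'_apply, (show orderOf ((x : G ⧸ Z) ^ Nat.card Z) = orderOf (x : G ⧸ Z)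
      from h.orderOf_pow)] at h1

end Lift

section PSL

variable {F : Type*} [Field F] [Fintype F] {n : ℕ}

theorem exists_matrix_of_psl (hn : 1 ≤ n) (y : Matrix.ProjectiveSpecialLinearGroup (Fin n) F)
    (h : (orderOf y).Coprime (Nat.gcd n (Fintype.card F - 1))) :
    ∃ A : Matrix (Fin n) (Fin n) F, A.det = 1 ∧ orderOf A = orderOf y := by
  haveI : Nonempty (Fin n) := ⟨⟨0, hn⟩⟩
  obtain ⟨s, hs⟩ := exists_lift_orderOf (Subgroup.center (Matrix.SpecialLinearGroup (Fin n) F)) (y := y)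
    (by rwa [CfsgLib.Classical.card_center_SL, Fintype.card_fin, CfsgLib.Classical.card_units_eq rfl])
  refine ⟨s, s.prop, ?_⟩
  rw [← hs]
  exact orderOf_injective
    ((Units.coeHom _).comp Matrix.SpecialLinearGroup.toGL)
    (fun a b hab => Subtype.ext hab) s

theorem orderOf_pslMk_eq {s : Matrix.SpecialLinearGroup (Fin n) F} {N : ℕ}
    (h1 : ∃ c : F, (s : Matrix (Fin n) (Fin n) F) ^ N = c • 1)
    (h2 : ∀ (j : ℕ) (c : F), (s : Matrix (Fin n) (Fin n) F) ^ j = c • 1 → N ∣ j) :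
    orderOf (CfsgLib.KnownSimple.pslMk s) = N := by
  refine Nat.dvd_antisymm (orderOf_dvd_of_pow_eq_one ((CfsgLib.KnownSimple.pslMk_pow_eq_one_iff s N).2 h1)) ?_
  obtain ⟨c, hc⟩ := (CfsgLib.KnownSimple.pslMk_pow_eq_one_iff s _).1 (pow_orderOf_eq_one (CfsgLib.KnownSimple.pslMk s))
  exact h2 _ c hc

/-- Block diagonal matrices. -/
def blk {i : ℕ} (h : i ≤ n) :
    Matrix (Fin i) (Fin i) F × Matrix (Fin (n - i)) (Fin (n - i)) F →* Matrix (Fin n) (Fin n) F where
  toFun M := Matrix.reindexAlgEquiv F F (finSumFinEquiv.trans (finCongr (Nat.add_sub_cancel' h)))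
    (Matrix.fromBlocks M.1 0 0 M.2)
  map_one' := by rw [Prod.fst_one, Prod.snd_one, Matrix.fromBlocks_one, map_one]
  map_mul' M N := by
    rw [← map_mul, Matrix.fromBlocks_multiply]
    simp

theorem det_blk {i : ℕ} (h : i ≤ n) (M : Matrix (Fin i) (Fin i) F × Matrix (Fin (n - i)) (Fin (n - i)) F) :
    (blk h M).det = M.1.det * M.2.det := by
  show (Matrix.reindexAlgEquiv F F _ _).det = _
  rw [Matrix.det_reindexAlgEquiv, Matrix.det_fromBlocks_zero₂₁]

theorem blk_injective {i : ℕ} (h : i ≤ n) : Function.Injective (blk (F := F) h) := by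
  intro M N hMN
  have := (Matrix.fromBlocks_inj).1 ((Matrix.reindexAlgEquiv F F _).injective hMN)
  exact Prod.ext this.1 this.2.2.2

theorem blk_smul {i : ℕ} (h : i ≤ n) (c : F) :
    blk (F := F) h (c • 1, c • 1) = c • (1 : Matrix (Fin n) (Fin n) F) := by
  show Matrix.reindexAlgEquiv F F _ (Matrix.fromBlocks (c • 1) 0 0 (c • 1)) = _
  rw [← map_one (Matrix.reindexAlgEquiv F F (finSumFinEquiv.trans (finCongr (Nat.add_sub_cancel' h)))),
    ← map_smul, ← Matrix.fromBlocks_one, Matrix.fromBlocks_smul]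
  simp

theorem exists_matrix_prime_order {r i : ℕ} (hr : r.Prime) (hi : 1 ≤ i)
    (h : r ∣ Fintype.card F ^ i - 1) : ∃ M : Matrix (Fin i) (Fin i) F, orderOf M = r := by
  obtain ⟨M, -, hM⟩ := CfsgLib.KnownSimple.exists_matrix_orderOf_eq (F := F) i hi
  obtain ⟨c, hc⟩ := h
  refine ⟨M ^ c, ?_⟩
  have hc0 : c ≠ 0 := fun e => by
    have : 1 < Fintype.card F ^ i := Nat.one_lt_pow (by omega) Fintype.one_lt_card
    rw [e, mul_zero] at hc; omega
  rw [orderOf_pow_of_dvd hc0 (hM.symm ▸ hc ▸ dvd_mul_left c r), hM, hc, Nat.mul_div_cancel _ (Nat.pos_of_ne_zero hc0)]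

theorem det_eq_one_of_pow {i m : ℕ} {M : Matrix (Fin i) (Fin i) F} (hm : M ^ m = 1) (hm0 : m ≠ 0)
    (hc : m.Coprime (Fintype.card F - 1)) : M.det = 1 := by
  have h1 : M.det ^ m = 1 := by rw [← Matrix.det_pow, hm, Matrix.det_one]
  have h0 : M.det ≠ 0 := fun e => by rw [e, zero_pow hm0] at h1; exact zero_ne_one h1
  have h2 := FiniteField.pow_card_sub_one_eq_one _ h0
  have h3 := pow_gcd_eq_one.2 ⟨h1, h2⟩
  rwa [hc.gcd_eq_one, pow_one] at h3

end PSL

end CfsgLib.PrimeGraphPSL
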