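/-
Adjacency in the prime graph of `PSL(n, q)`.
-/
import Cfsg.Agent.Lib.PrimeGraphPSL.Basic

set_option autoImplicit false

namespace CfsgLib.PrimeGraphPSL

open Polynomial CfsgLib.KnownSimple

variable {F : Type*} [Field F] [Fintype F] {n : ℕ} {p : ℕ} [Fact p.Prime] [CharP F p]

omit [Fintype F] in
theorem natCast_ne_zero_of_ne {r : ℕ} (hr : r.Prime) (hrp : r ≠ p) : (r : F) ≠ 0 := fun h =>
  hrp ((Nat.prime_dvd_prime_iff_eq Fact.out hr).1 ((CharP.cast_eq_zero_iff F p r).1 h)).symm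

theorem not_dvd_card {r : ℕ} (hr : r.Prime) (hrp : r ≠ p) : ¬ r ∣ Fintype.card F := by
  intro h
  obtain ⟨m, hp, hc⟩ := FiniteField.card F p
  exact hrp ((Nat.prime_dvd_prime_iff_eq hr hp).1 (hr.dvd_of_dvd_pow (hc ▸ h)))

theorem char_not_dvd_sub_one : ¬ p ∣ Fintype.card F - 1 := by
  intro h
  have hp := (Fact.out : p.Prime)
  have h1 : p ∣ Fintype.card F := (CharP.cast_eq_zero_iff F p _).1 (FiniteField.cast_card_eq_zero F)
  have h2 := Nat.dvd_sub h1 h
  rw [Nat.sub_sub_self Fintype.card_pos] at h2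
  exact hp.ne_one (Nat.dvd_one.1 h2)

theorem order_le_of_dvd_card (hn : 1 ≤ n) {r : ℕ} (hr : r.Prime) (hrp : r ≠ p)
    (h : r ∣ Nat.card (Matrix.ProjectiveSpecialLinearGroup (Fin n) F)) :
    orderOf ((Fintype.card F : ℕ) : ZMod r) ≤ n := by
  have h1 : r ∣ ∏ i : Fin n, (Fintype.card F ^ n - Fintype.card F ^ (i : ℕ)) := by
    rw [← CfsgLib.Classical.card_PSL_mul (F := F) rfl n hn]
    exact (h.mul_left _).mul_left _
  obtain ⟨i, -, hi⟩ := (hr.prime.dvd_finsetProd_iff _).1 h1
  rw [show Fintype.card F ^ n - Fintype.card F ^ (i : ℕ) =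
    Fintype.card F ^ (i : ℕ) * (Fintype.card F ^ (n - i) - 1) by
      rw [Nat.mul_sub, mul_one, ← pow_add, Nat.add_sub_cancel' i.2.le]] at hi
  rcases (Nat.Prime.dvd_mul hr).1 hi with h2 | h2
  · exact absurd (hr.dvd_of_dvd_pow h2) (not_dvd_card hr hrp)
  · exact (Nat.le_of_dvd (by omega) ((orderOf_natCast_dvd_iff Fintype.card_pos).2 h2)).trans (Nat.sub_le _ _)

theorem exists_psl_of_matrix (A : Matrix (Fin n) (Fin n) F) {m : ℕ} (hm : orderOf A = m) (hm0 : m ≠ 0)
    (hn : 1 ≤ n) (hc : m.Coprime (Fintype.card F - 1)) :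
    ∃ y : Matrix.ProjectiveSpecialLinearGroup (Fin n) F, orderOf y = m := by
  haveI : Nonempty (Fin n) := ⟨⟨0, hn⟩⟩
  let s : Matrix.SpecialLinearGroup (Fin n) F := ⟨A, det_eq_one_of_pow (hm ▸ pow_orderOf_eq_one A) hm0 hc⟩
  have hs : orderOf s = m := by
    rw [← hm, ← orderOf_injective ((Units.coeHom _).comp Matrix.SpecialLinearGroup.toGL)
      (fun a b hab => Subtype.ext hab) s]
    rfl
  refine ⟨QuotientGroup.mk' _ s, ?_⟩
  rw [QuotientGroup.mk'_apply, orderOf_mk_of_coprime, hs]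
  rw [hs, CfsgLib.Classical.card_center_SL, Fintype.card_fin, CfsgLib.Classical.card_units_eq rfl]
  exact Nat.Coprime.coprime_dvd_right (Nat.gcd_dvd_right _ _) hc

theorem exists_order_mul_iff (hn : 1 ≤ n) {r s : ℕ} (hr : r.Prime) (hs : s.Prime) (hrp : r ≠ p) (hsp : s ≠ p)
    (hrs : r ≠ s) {k l : ℕ} (hk : k = orderOf ((Fintype.card F : ℕ) : ZMod r))
    (hl : l = orderOf ((Fintype.card F : ℕ) : ZMod s)) (h2k : 2 ≤ k) (hkl : k ≤ l) (hln : l ≤ n) :
    (∃ y : Matrix.ProjectiveSpecialLinearGroup (Fin n) F, orderOf y = r * s) ↔ (k + l ≤ n ∨ k ∣ l) := by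
  have hq : 1 ≤ Fintype.card F := Fintype.card_pos
  have hr1 : ¬ r ∣ Fintype.card F - 1 := fun h => by
    have h' := (orderOf_natCast_eq_one hq).2 h; omega
  have hs1 : ¬ s ∣ Fintype.card F - 1 := fun h => by
    have h' := (orderOf_natCast_eq_one hq).2 h; omega
  have hcop : (r * s).Coprime (Fintype.card F - 1) :=
    Nat.Coprime.mul_left ((hr.coprime_iff_not_dvd).2 hr1) ((hs.coprime_iff_not_dvd).2 hs1)
  have hcrs : r.Coprime s := (Nat.coprime_primes hr hs).2 hrs
  constructor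
  · rintro ⟨y, hy⟩
    obtain ⟨A, -, hA⟩ := exists_matrix_of_psl hn y
      (hy ▸ Nat.Coprime.coprime_dvd_right (Nat.gcd_dvd_right _ _) hcop)
    rcases degree_bound_two hr hs (natCast_ne_zero_of_ne hr hrp) (natCast_ne_zero_of_ne hs hsp)
      (hA.trans hy) with h | ⟨d, hd0, hdn, hkd, hld⟩
    · exact Or.inl (by omega)
    · by_cases hdiv : k ∣ l
      · exact Or.inr hdiv
      · rw [← hk] at hkd; rw [← hl] at hld
        have hne : d ≠ l := fun e => hdiv (e ▸ hkd)
        obtain ⟨c, rfl⟩ := hld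
        rcases c with _ | _ | c
        · omega
        · omega
        · left; nlinarith
  · intro h
    have hrk : r ∣ Fintype.card F ^ k - 1 := (orderOf_natCast_dvd_iff hq).1 (hk ▸ dvd_rfl)
    have hsl : s ∣ Fintype.card F ^ l - 1 := (orderOf_natCast_dvd_iff hq).1 (hl ▸ dvd_rfl)
    have hrs0 : r * s ≠ 0 := Nat.mul_ne_zero hr.ne_zero hs.ne_zero
    rcases h with h | h
    · obtain ⟨A, hA⟩ := exists_matrix_prime_order (F := F) hr (by omega) hrk
      obtain ⟨B, hB⟩ := exists_matrix_prime_order (F := F) hs (by omega) hsl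
      refine exists_psl_of_matrix (blk (show k ≤ n by omega) (A, blockEmb (show l ≤ n - k by omega) B)) ?_ hrs0 hn hcop
      rw [orderOf_injective _ (blk_injective _), Prod.orderOf,
        orderOf_injective _ (blockEmb_injective _), hA, hB, hcrs.lcm_eq_mul]
    · have hdvd : r * s ∣ Fintype.card F ^ l - 1 :=
        hcrs.mul_dvd_of_dvd_of_dvd ((orderOf_natCast_dvd_iff hq).1 (hk ▸ h)) hsl
      obtain ⟨M, -, hM⟩ := exists_matrix_orderOf_eq (F := F) l (by omega)
      obtain ⟨c, hc⟩ := hdvd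
      have hc0 : c ≠ 0 := fun e => by
        have : 1 < Fintype.card F ^ l := Nat.one_lt_pow (by omega) Fintype.one_lt_card
        rw [e, mul_zero] at hc; omega
      refine exists_psl_of_matrix (blockEmb hln (M ^ c)) ?_ hrs0 hn hcop
      rw [orderOf_injective _ (blockEmb_injective _), orderOf_pow_of_dvd hc0 (hM.symm ▸ hc ▸ dvd_mul_left c _),
        hM, hc, Nat.mul_div_cancel _ (Nat.pos_of_ne_zero hc0)]

theorem eq_one_of_pow_char {c : F} (h : c ^ p = 1) : c = 1 :=
  frobenius_inj F p (by rw [frobenius_def, h, map_one])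

/-- The excluded small cases. -/
theorem not_small {A : Matrix (Fin n) (Fin n) F} {r : ℕ} (hr : r.Prime) (hrp : r ≠ p) (hdet : A.det = 1)
    (ho : orderOf A = r * p) (hns : ∀ b : F, A ^ p ≠ b • 1)
    (hk : r ∣ Fintype.card F - 1) (hsmall : n = 2 ∧ r ≠ 2 ∨ n = 3 ∧ r = 3) : False := by
  obtain ⟨f, h, hf, hh, hfm, hhm, -, hfp, -, hfh, hh2⟩ :=
    degree_bound_char (p := p) hr (natCast_ne_zero_of_ne (F := F) hr hrp) ho
  haveI : Nonempty (Fin n) := ⟨⟨0, by omega⟩⟩
  have hh1 : h.natDegree = 1 := by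
    have := hh.natDegree_pos; omega
  obtain ⟨a, c, hc, hha⟩ : ∃ a c : F, c ≠ 0 ∧ h = C c * (X - C a) := by
    obtain ⟨c, hc, b, hb⟩ := Polynomial.natDegree_eq_one.1 hh1
    exact ⟨-b / c, c, hc, by rw [← hb, mul_sub, ← C_mul, mul_div_cancel₀ _ hc, C_neg, sub_neg_eq_add]⟩
  have hxa : (X - C a) * (X - C a) ∣ minpoly F A :=
    (mul_dvd_mul (hha ▸ dvd_mul_left _ _) (hha ▸ dvd_mul_left _ _)).trans hhm
  have hApow : (A ^ p) ^ r = 1 := by rw [← pow_mul, mul_comm, ← ho, pow_orderOf_eq_one]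
  -- the repeated root is an `r`-th root of unity
  have hra : a ^ r = 1 := by
    have h1 : minpoly F A ∣ (X ^ r - C 1) ^ p := minpoly.dvd F A (by
      rw [map_pow, map_sub, map_pow, aeval_X, aeval_C, map_one,
        sub_pow_char_of_commute (p := p) (h := Commute.one_right _), one_pow, ← pow_mul, mul_comm,
        pow_mul, hApow, sub_self])
    have h2 := ((dvd_mul_right _ _).trans hxa).trans h1
    rw [dvd_iff_isRoot, IsRoot, eval_pow, eval_sub, eval_pow, eval_X, eval_C,
      pow_eq_zero_iff (Fact.out : p.Prime).ne_zero, sub_eq_zero] at h2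
    exact h2
  obtain ⟨t, ht⟩ := hxa.trans (Matrix.minpoly_dvd_charpoly A)
  have ht0 : t ≠ 0 := by
    intro e; rw [e, mul_zero] at ht; exact (Matrix.charpoly_monic A).ne_zero ht
  have htm : t.Monic := ((monic_X_sub_C a).mul (monic_X_sub_C a)).of_mul_monic_left (ht ▸ Matrix.charpoly_monic A)
  have htd : t.natDegree = n - 2 := by
    have := congrArg natDegree ht
    rw [Matrix.charpoly_natDegree_eq_dim, Fintype.card_fin, natDegree_mul (mul_ne_zero (X_sub_C_ne_zero a)
      (X_sub_C_ne_zero a)) ht0, natDegree_mul (X_sub_C_ne_zero a) (X_sub_C_ne_zero a), natDegree_X_sub_C] at this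
    omega
  have hd := Matrix.det_eq_sign_charpoly_coeff A
  rw [hdet, ht, Fintype.card_fin, Polynomial.mul_coeff_zero, Polynomial.mul_coeff_zero, coeff_sub, coeff_X_zero,
    coeff_C_zero, zero_sub] at hd
  have hpow : (A - a • 1) ^ n = 0 := by
    have key : A.charpoly = (X - C a) ^ n := by
      rcases hsmall with ⟨rfl, hr2⟩ | ⟨rfl, hr3⟩
      · rw [ht, (htm.natDegree_eq_zero).1 (by omega), mul_one, sq]
      · obtain ⟨b, hb⟩ : ∃ b : F, t = X - C b :=
          ⟨-t.coeff 0, by rw [C_neg, sub_neg_eq_add]; exact htm.eq_X_add_C (by omega)⟩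
        rw [hb, coeff_sub, coeff_X_zero, coeff_C_zero, zero_sub] at hd
        have : b = a := by
          subst hr3
          linear_combination -a * hd - b * hra
        rw [ht, hb, this]; ring
    have h3 := Matrix.aeval_self_charpoly A
    rwa [key, map_pow, map_sub, aeval_X, aeval_C, Algebra.algebraMap_eq_smul_one] at h3
  have h4 : A ^ p = (a ^ p) • 1 := by
    refine eq_scalar (N := n) (natCast_ne_zero_of_ne hr hrp) hApow ?_
    have hc : Commute A (a • (1 : Matrix (Fin n) (Fin n) F)) := (Commute.one_right A).smul_right a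
    rw [show (a ^ p) • (1 : Matrix (Fin n) (Fin n) F) = (a • 1) ^ p by rw [_root_.smul_pow, one_pow],
      ← sub_pow_char_of_commute (p := p) (h := hc), ← pow_mul, mul_comm, pow_mul, hpow,
      zero_pow (Fact.out : p.Prime).ne_zero]
  exact hns _ h4

theorem not_order_three_char {y : Matrix.ProjectiveSpecialLinearGroup (Fin 3) F} (hp3 : 3 ≠ p)
    (h3 : 3 ∣ Fintype.card F - 1) (h9 : ¬ 9 ∣ Fintype.card F - 1) : orderOf y ≠ 3 * p := by
  intro hy
  obtain ⟨s, rfl⟩ := QuotientGroup.mk'_surjective _ y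
  set A := (s : Matrix (Fin 3) (Fin 3) F) with hA
  have hp := (Fact.out : p.Prime)
  obtain ⟨z, hz⟩ := (pslMk_pow_eq_one_iff s (3 * p)).1 (hy ▸ pow_orderOf_eq_one _)
  rw [← hA] at hz
  have hns : ∀ b : F, A ^ p ≠ b • 1 := fun b hb => by
    have h1 := orderOf_dvd_of_pow_eq_one ((pslMk_pow_eq_one_iff s p).2 ⟨b, hb⟩)
    rw [show pslMk s = QuotientGroup.mk' _ s from rfl, hy] at h1
    have := Nat.le_of_dvd hp.pos h1
    have := hp.pos; omega
  have hz3 : z ^ 3 = 1 := by
    have := congrArg Matrix.det hz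
    rwa [Matrix.det_pow, hA, s.prop, one_pow, Matrix.det_smul, Matrix.det_one, mul_one, Fintype.card_fin,
      eq_comm] at this
  have hs3 : ∀ b : F, A ^ 3 ≠ b • 1 := fun b hb => by
    have h1 := orderOf_dvd_of_pow_eq_one ((pslMk_pow_eq_one_iff s 3).2 ⟨b, hb⟩)
    rw [show pslMk s = QuotientGroup.mk' _ s from rfl, hy] at h1
    have := Nat.le_of_dvd (by omega) h1
    have := hp.two_le; omega
  by_cases hz1 : z = 1
  · subst hz1
    rw [one_smul] at hz
    haveI : Fact (Nat.Prime 3) := ⟨Nat.prime_three⟩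
    have ho : orderOf A = 3 * p := by
      refine Nat.dvd_antisymm (orderOf_dvd_of_pow_eq_one hz) ?_
      rw [← hy, orderOf_dvd_iff_pow_eq_one]
      exact (pslMk_pow_eq_one_iff s _).2 ⟨1, by rw [one_smul]; exact pow_orderOf_eq_one _⟩
    exact not_small Nat.prime_three hp3 s.prop ho hns h3 (Or.inr ⟨rfl, rfl⟩)
  obtain ⟨w, hw⟩ := (frobeniusEquiv F p).surjective z
  rw [frobeniusEquiv_apply, frobenius_def] at hw
  have hw3 : w ^ 3 = 1 := eq_one_of_pow_char (p := p) (by rw [← pow_mul, mul_comm, pow_mul, hw, hz3])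
  have hw1 : w ≠ 1 := fun e => hz1 (by rw [← hw, e, one_pow])
  have hirr : Irreducible (X ^ 3 - C w : F[X]) := by
    refine Polynomial.irreducible_of_degree_le_three_of_not_isRoot (by rw [natDegree_X_pow_sub_C]; decide) ?_
    intro x hx
    rw [IsRoot, eval_sub, eval_pow, eval_X, eval_C, sub_eq_zero] at hx
    apply h9
    have hx0 : x ≠ 0 := fun e => by rw [e, zero_pow (by norm_num)] at hx; rw [← hx, zero_pow (by norm_num)] at hw3; exact zero_ne_one hw3
    have ho : orderOf x = 3 ^ 2 := by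
      haveI : Fact (Nat.Prime 3) := ⟨Nat.prime_three⟩
      refine orderOf_eq_prime_pow ?_ ?_
      · rw [pow_one, hx]; exact hw1
      · rw [show (3 : ℕ) ^ (1 + 1) = 3 * 3 by norm_num, pow_mul, hx, hw3]
    have := orderOf_dvd_of_pow_eq_one (FiniteField.pow_card_sub_one_eq_one x hx0)
    rwa [ho] at this
  have hm : minpoly F A ∣ (X ^ 3 - C w) ^ p := minpoly.dvd F A (by
    rw [map_pow, map_sub, map_pow, aeval_X, aeval_C,
      sub_pow_char_of_commute (p := p) (h := (Algebra.commutes w (A ^ 3)).symm), ← map_pow, hw,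
      Algebra.algebraMap_eq_smul_one, ← pow_mul, hz, sub_self])
  obtain ⟨j, -, hj⟩ := (dvd_prime_pow hirr.prime p).1 hm
  have hdeg := natDegree_eq_of_degree_eq (degree_eq_degree_of_associated hj)
  rw [natDegree_pow, natDegree_X_pow_sub_C] at hdeg
  have hle := natDegree_minpoly_le A
  have hpos := minpoly.natDegree_pos (Algebra.IsIntegral.isIntegral (R := F) A)
  obtain rfl : j = 1 := by omega
  rw [pow_one] at hj
  obtain ⟨u, hu⟩ := hj
  have h0 : aeval A (X ^ 3 - C w : F[X]) = 0 := by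
    rw [← hu, map_mul, minpoly.aeval, zero_mul]
  rw [map_sub, map_pow, aeval_X, aeval_C, sub_eq_zero, Algebra.algebraMap_eq_smul_one] at h0
  exact hs3 w h0

theorem exists_mul_char_of_block {i r : ℕ} (hin : i + 2 ≤ n) (A : Matrix (Fin i) (Fin i) F) (hr : r.Prime)
    (hrp : r ≠ p) (hA : orderOf A = r) (hdet : A.det = 1) :
    ∃ y : Matrix.ProjectiveSpecialLinearGroup (Fin n) F, orderOf y = r * p := by
  have hp := (Fact.out : p.Prime)
  set U := blockEmb (F := F) (show 2 ≤ n - i by omega) (jordanUni F 2) with hU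
  have hUo : orderOf U = p := by
    rw [hU, orderOf_injective _ (blockEmb_injective _), orderOf_jordanUni (p := p) le_rfl,
      Nat.clog_eq_one le_rfl hp.two_le, pow_one]
  let s : Matrix.SpecialLinearGroup (Fin n) F := ⟨blk (show i ≤ n by omega) (A, U), by
    rw [det_blk, hdet, hU, det_blockEmb, det_jordanUni, one_mul]⟩
  refine ⟨pslMk s, orderOf_pslMk_eq ⟨1, ?_⟩ fun j d hj => ?_⟩
  · show blk _ (A, U) ^ (r * p) = _
    rw [← map_pow, Prod.pow_mk, pow_mul, ← hA, pow_orderOf_eq_one, one_pow, mul_comm, pow_mul, ← hUo,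
      pow_orderOf_eq_one, one_pow, one_smul]
    exact map_one _
  · have h1 : blk (show i ≤ n by omega) (A ^ j, U ^ j) = blk (show i ≤ n by omega) (d • 1, d • 1) := by
      rw [blk_smul, ← hj, ← Prod.pow_mk, map_pow]
    obtain ⟨h2, h3⟩ := Prod.mk.injEq _ _ _ _ ▸ blk_injective _ h1
    haveI : Nonempty (Fin (n - i)) := ⟨⟨0, by omega⟩⟩
    have hd : d = 1 := by
      have h4 := congrArg (fun M => M ^ p) h3
      simp only [_root_.smul_pow, one_pow] at h4
      rw [← pow_mul, mul_comm, pow_mul, ← hUo, pow_orderOf_eq_one, one_pow] at h4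
      have h5 := congrFun (congrFun h4 ⟨0, by omega⟩) ⟨0, by omega⟩
      simp only [Matrix.one_apply_eq, Matrix.smul_apply, smul_eq_mul, mul_one, hUo] at h5
      exact eq_one_of_pow_char (p := p) h5.symm
    rw [hd, one_smul] at h2 h3
    exact ((Nat.coprime_primes hr hp).2 hrp).mul_dvd_of_dvd_of_dvd (hA ▸ orderOf_dvd_of_pow_eq_one h2)
      (hUo ▸ orderOf_dvd_of_pow_eq_one h3)

theorem exists_mul_char_three {r o : ℕ} (hr : r.Prime) (hrp : r ≠ p) (ho1 : o ∣ 3 * r)
    (ho2 : ∀ j, o ∣ 3 * j → r ∣ j) {c : F} (hc : orderOf c = o) (hc0 : c ≠ 0) :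
    ∃ y : Matrix.ProjectiveSpecialLinearGroup (Fin 3) F, orderOf y = r * p := by
  have hp := (Fact.out : p.Prime)
  set U := jordanUni F 2 with hU
  have hUo : orderOf U = p := by
    rw [hU, orderOf_jordanUni (p := p) le_rfl, Nat.clog_eq_one le_rfl hp.two_le, pow_one]
  let s : Matrix.SpecialLinearGroup (Fin 3) F :=
    ⟨blk (show 1 ≤ 3 by norm_num) ((c ^ 2)⁻¹ • 1, (c • U : Matrix (Fin (3 - 1)) (Fin (3 - 1)) F)), by
      rw [det_blk, Matrix.det_smul, Matrix.det_smul, Matrix.det_one, hU, det_jordanUni]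
      simp [hc0]⟩
  refine ⟨pslMk s, orderOf_pslMk_eq ⟨c ^ (r * p), ?_⟩ fun j d hj => ?_⟩
  · show blk _ _ ^ (r * p) = _
    rw [← map_pow, ← blk_smul (show 1 ≤ 3 by norm_num), Prod.pow_mk, _root_.smul_pow, _root_.smul_pow, one_pow]
    have h1 : c ^ (3 * (r * p)) = 1 := by
      rw [← orderOf_dvd_iff_pow_eq_one, hc]; exact ho1.trans ⟨p, by ring⟩
    have h2 : ((c ^ 2)⁻¹) ^ (r * p) = c ^ (r * p) := by
      rw [inv_pow, ← mul_eq_one_iff_inv_eq₀ (pow_ne_zero _ (pow_ne_zero _ hc0)), ← pow_mul, ← pow_add, ← h1]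
      congr 1; ring
    rw [h2, show U ^ (r * p) = 1 by rw [mul_comm, pow_mul, ← hUo, pow_orderOf_eq_one, one_pow]]
  · have h1 : blk (show 1 ≤ 3 by norm_num)
        (((c ^ 2)⁻¹ • 1 : Matrix (Fin 1) (Fin 1) F) ^ j, (c • U : Matrix (Fin (3 - 1)) (Fin (3 - 1)) F) ^ j) =
        blk (show 1 ≤ 3 by norm_num) (d • 1, d • 1) := by
      rw [blk_smul, ← hj, ← Prod.pow_mk, map_pow]
    obtain ⟨h2, h3⟩ := Prod.mk.injEq _ _ _ _ ▸ blk_injective _ h1
    rw [_root_.smul_pow, one_pow] at h2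
    rw [_root_.smul_pow] at h3
    have e1 : ((c ^ 2)⁻¹) ^ j = d := by simpa using congrFun (congrFun h2 0) 0
    have e3 : c ^ j ≠ 0 := pow_ne_zero _ hc0
    have h5 : U ^ j = (d / c ^ j) • 1 := by
      rw [div_eq_inv_mul, mul_smul]
      exact ((eq_inv_smul_iff₀ e3).2 h3)
    have hd : d / c ^ j = 1 := by
      have h4 := congrArg (fun M => M ^ p) h5
      simp only [_root_.smul_pow, one_pow] at h4
      rw [← pow_mul, mul_comm, pow_mul, ← hUo, pow_orderOf_eq_one, one_pow] at h4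
      have h6 := congrFun (congrFun h4 0) 0
      simp only [Matrix.one_apply_eq, Matrix.smul_apply, smul_eq_mul, mul_one, hUo] at h6
      exact eq_one_of_pow_char (p := p) h6.symm
    rw [hd, one_smul] at h5
    refine ((Nat.coprime_primes hr hp).2 hrp).mul_dvd_of_dvd_of_dvd (ho2 j ?_) (hUo ▸ orderOf_dvd_of_pow_eq_one h5)
    rw [← hc, orderOf_dvd_iff_pow_eq_one]
    rw [div_eq_one_iff_eq e3, ← e1, inv_pow, ← mul_eq_one_iff_inv_eq₀ (pow_ne_zero _ (pow_ne_zero _ hc0))] at hd
    rw [← pow_mul, ← pow_add] at hd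
    rwa [show 3 * j = 2 * j + j by ring]

theorem exists_order_mul_char_iff (hn : 2 ≤ n) {r : ℕ} (hr : r.Prime) (hr2 : r ≠ 2) (hrp : r ≠ p) {k : ℕ}
    (hk : k = orderOf ((Fintype.card F : ℕ) : ZMod r)) :
    (∃ y : Matrix.ProjectiveSpecialLinearGroup (Fin n) F, orderOf y = r * p) ↔
      (k ≤ n - 2 ∧ ¬ (n = 3 ∧ r = 3 ∧ 3 ∣ Fintype.card F - 1 ∧ ¬ 9 ∣ Fintype.card F - 1)) := by
  have hq : 1 ≤ Fintype.card F := Fintype.card_pos
  have hp := (Fact.out : p.Prime)
  have hk0 : 0 < k := hk ▸ orderOf_natCast_pos hr (not_dvd_card hr hrp)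
  have hpq : p.Coprime (Fintype.card F - 1) := (hp.coprime_iff_not_dvd).2 char_not_dvd_sub_one
  constructor
  · rintro ⟨y, hy⟩
    refine ⟨?_, fun ⟨e1, e2, e3, e4⟩ => ?_⟩
    · by_contra hcon
      push_neg at hcon
      by_cases hk1 : k = 1
      · obtain rfl : n = 2 := by omega
        have hr1 : r ∣ Fintype.card F - 1 := (orderOf_natCast_eq_one hq).1 (hk ▸ hk1)
        have hc : (orderOf y).Coprime (Nat.gcd 2 (Fintype.card F - 1)) := by
          rw [hy]
          exact Nat.Coprime.mul_left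
            (Nat.Coprime.coprime_dvd_right (Nat.gcd_dvd_left _ _) ((Nat.coprime_primes hr Nat.prime_two).2 hr2))
            (Nat.Coprime.coprime_dvd_right (Nat.gcd_dvd_right _ _) hpq)
        obtain ⟨A, hdet, hA⟩ := exists_matrix_of_psl (by omega) y hc
        rw [hy] at hA
        refine not_small hr hrp hdet hA ?_ hr1 (Or.inl ⟨rfl, hr2⟩)
        intro b hb
        have hbr : b ^ r = 1 := by
          have := congrArg (fun M => (M ^ r) 0 0) hb
          simp only [_root_.smul_pow, one_pow, ← pow_mul, Matrix.smul_apply, Matrix.one_apply_eq, smul_eq_mul, mul_one] at this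
          rw [mul_comm p r, ← hA, pow_orderOf_eq_one, Matrix.one_apply_eq] at this
          exact this.symm
        have hb2 : b ^ 2 = 1 := by
          have := congrArg Matrix.det hb
          rwa [Matrix.det_pow, hdet, one_pow, Matrix.det_smul, Matrix.det_one, mul_one, Fintype.card_fin,
            eq_comm] at this
        have hb1 : b = 1 := by
          have h3 := pow_gcd_eq_one.2 ⟨hbr, hb2⟩
          rwa [((Nat.coprime_primes hr Nat.prime_two).2 hr2).gcd_eq_one, pow_one] at h3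
        rw [hb1, one_smul] at hb
        have := Nat.le_of_dvd hp.pos (hA ▸ orderOf_dvd_of_pow_eq_one hb)
        have := hp.pos; have := hr.two_le; nlinarith
      · have hr1 : ¬ r ∣ Fintype.card F - 1 := fun h => hk1 (hk.trans ((orderOf_natCast_eq_one hq).2 h))
        obtain ⟨A, -, hA⟩ := exists_matrix_of_psl (by omega) y (hy ▸ Nat.Coprime.coprime_dvd_right
          (Nat.gcd_dvd_right _ _) (Nat.Coprime.mul_left ((hr.coprime_iff_not_dvd).2 hr1) hpq))
        obtain ⟨f, h, hf, hh, -, -, hfd, hfp, -, hfh, hh2⟩ :=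
          degree_bound_char (p := p) hr (natCast_ne_zero_of_ne (F := F) hr hrp) (hA.trans hy)
        rw [← hk] at hfd
        have h1 := Nat.le_of_dvd hfp hfd
        have := hh.natDegree_pos
        by_cases hd : f ∣ h
        · rw [natDegree_eq_of_degree_eq (degree_eq_degree_of_associated (hf.associated_of_dvd hh hd))] at h1
          omega
        · have := hfh hd; omega
    · subst e1 e2
      exact not_order_three_char hrp e3 e4 hy
  · rintro ⟨hkn, hexc⟩
    by_cases hk1 : k = 1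
    · subst hk1
      have hr1 : r ∣ Fintype.card F - 1 := (orderOf_natCast_eq_one hq).1 hk.symm
      have getc : ∀ o : ℕ, o ∣ Fintype.card F - 1 → ∃ c : F, c ≠ 0 ∧ orderOf c = o := by
        intro o ho
        obtain ⟨g, hg⟩ := IsCyclic.exists_ofOrder_eq_natCard (α := Fˣ)
        rw [CfsgLib.Classical.card_units_eq rfl] at hg
        obtain ⟨e, he⟩ := ho
        have h2 : e ≠ 0 := fun h => by
          have := Fintype.one_lt_card (α := F); rw [h, mul_zero] at he; omega
        refine ⟨((g ^ e : Fˣ) : F), Units.ne_zero _, ?_⟩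
        rw [orderOf_units, orderOf_pow_of_dvd h2 (hg.symm ▸ he ▸ dvd_mul_left e o), hg, he,
          Nat.mul_div_cancel _ (Nat.pos_of_ne_zero h2)]
      by_cases hn4 : 4 ≤ n
      · obtain ⟨c, hc0, hc⟩ := getc r hr1
        refine exists_mul_char_of_block (i := 2) (by omega) !![c, 0; 0, c⁻¹] hr hrp ?_ (by simp [hc0])
        have e : !![c, 0; 0, c⁻¹] = Matrix.diagonal ![c, c⁻¹] := by
          ext a b; fin_cases a <;> fin_cases b <;> simp
        rw [e]
        refine (orderOf_injective (Matrix.diagonalRingHom (Fin 2) F).toMonoidHom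
          Matrix.diagonal_injective ![c, c⁻¹]).trans ?_
        rw [← hc]
        refine Nat.dvd_antisymm (orderOf_dvd_of_pow_eq_one ?_) ?_
        · funext a; fin_cases a <;> simp [pow_orderOf_eq_one]
        · rw [orderOf_dvd_iff_pow_eq_one]
          simpa using congrFun (pow_orderOf_eq_one (![c, c⁻¹] : Fin 2 → F)) 0
      · obtain rfl : n = 3 := by omega
        by_cases hr3 : r = 3
        · subst hr3
          have h9 : 9 ∣ Fintype.card F - 1 := by
            by_contra h; exact hexc ⟨rfl, rfl, hr1, h⟩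
          obtain ⟨c, hc0, hc⟩ := getc 9 h9
          exact exists_mul_char_three hr hrp (by norm_num) (fun j hj => by omega) hc hc0
        · obtain ⟨c, hc0, hc⟩ := getc r hr1
          exact exists_mul_char_three hr hrp (dvd_mul_left _ _)
            (fun j hj => ((Nat.coprime_primes hr Nat.prime_three).2 hr3).dvd_of_dvd_mul_left hj) hc hc0
    · have hr1 : ¬ r ∣ Fintype.card F - 1 := fun h => hk1 (hk.trans ((orderOf_natCast_eq_one hq).2 h))
      obtain ⟨A, hA⟩ := exists_matrix_prime_order (F := F) hr (i := k) (by omega)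
        ((orderOf_natCast_dvd_iff hq).1 (hk ▸ dvd_rfl))
      exact exists_mul_char_of_block (i := k) (by omega) A hr hrp hA
        (det_eq_one_of_pow (hA ▸ pow_orderOf_eq_one A) hr.ne_zero ((hr.coprime_iff_not_dvd).2 hr1))

end CfsgLib.PrimeGraphPSL
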