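/-
Elements of order `q ^ (n / 2) + 1` in `PSL(n, q)`.
-/
import Cfsg.Agent.Lib.PrimeGraphPSL.Adjacency
import Cfsg.Agent.Lib.Recognition.Zsigmondy

set_option autoImplicit false

namespace CfsgLib.PrimeGraphPSL

open Polynomial CfsgLib.KnownSimple

theorem gcd_two_mul_dvd_iff {m t : ℕ} (hm : m ≠ 0) (ht : t ≠ 0) :
    Nat.gcd (2 * m) t ∣ m ↔ padicValNat 2 t < padicValNat 2 (2 * m) := by
  haveI : Fact (Nat.Prime 2) := ⟨Nat.prime_two⟩
  obtain ⟨v, o, ho, hmv⟩ := Nat.exists_eq_pow_mul_and_not_dvd hm 2 (by norm_num)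
  have ho0 : o ≠ 0 := fun e => ho (e ▸ dvd_zero 2)
  have hv2 : padicValNat 2 (2 * m) = v + 1 := by
    rw [hmv, ← mul_assoc, ← pow_succ', padicValNat.mul (pow_ne_zero _ (by norm_num)) ho0,
      padicValNat.prime_pow, padicValNat.eq_zero_of_not_dvd ho, add_zero]
  rw [hv2]
  constructor
  · intro h
    by_contra hcon
    have h1 : 2 ^ (v + 1) ∣ t := (pow_dvd_pow 2 (not_lt.1 hcon)).trans pow_padicValNat_dvd
    have h2 : 2 ^ (v + 1) ∣ 2 * m := by
      rw [hmv, ← mul_assoc, ← pow_succ']; exact dvd_mul_right _ _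
    have h3 := (Nat.dvd_gcd h2 h1).trans h
    rw [hmv, pow_succ] at h3
    exact ho ((Nat.mul_dvd_mul_iff_left (pow_pos two_pos v)).1 h3)
  · intro h
    obtain ⟨a, b, ha, hb, hab⟩ := Nat.dvd_mul.1
      (show Nat.gcd (2 * m) t ∣ 2 ^ (v + 1) * o by
        rw [pow_succ', mul_assoc, ← hmv]; exact Nat.gcd_dvd_left _ _)
    obtain ⟨i, hi, rfl⟩ := (Nat.dvd_prime_pow Nat.prime_two).1 ha
    have hit : 2 ^ i ∣ t := ((dvd_mul_right _ b).trans (dvd_of_eq hab)).trans (Nat.gcd_dvd_right _ _)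
    have hle : i ≤ padicValNat 2 t := (padicValNat_dvd_iff_le ht).1 hit
    rw [← hab, hmv]
    exact Nat.mul_dvd_mul (pow_dvd_pow 2 (by omega)) hb

theorem geom_mod {q d m : ℕ} (hq : 1 ≤ q) (hd : d ∣ q - 1) :
    d ∣ ∑ i ∈ Finset.range m, q ^ i ↔ d ∣ m := by
  rw [← ZMod.natCast_eq_zero_iff, ← ZMod.natCast_eq_zero_iff]
  have h1 : (q : ZMod d) = 1 := by
    rw [← ZMod.natCast_eq_zero_iff, Nat.cast_sub hq, Nat.cast_one, sub_eq_zero] at hd
    exact hd
  rw [Nat.cast_sum]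
  simp [Nat.cast_pow, h1]

theorem exists_primitive {n q : ℕ} (hn : 4 ≤ n) (hq : Odd q) (hq1 : 2 ≤ q) :
    ∃ r : ℕ, r.Prime ∧ r ∣ q ^ n - 1 ∧ ∀ i, 1 ≤ i → i < n → ¬ r ∣ q ^ i - 1 := by
  by_cases h : (n, q) ∈ CfsgLib.Recognition.Zsigmondy.exceptions
  · simp only [CfsgLib.Recognition.Zsigmondy.exceptions, List.mem_cons, List.not_mem_nil, or_false,
      Prod.mk.injEq] at h
    rcases h with ⟨rfl, rfl⟩ | ⟨rfl, rfl⟩ | ⟨rfl, rfl⟩ | ⟨rfl, rfl⟩ | ⟨rfl, rfl⟩ | ⟨rfl, rfl⟩ | ⟨rfl, rfl⟩ | ⟨rfl, rfl⟩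
    all_goals first
      | exact absurd hq (by decide)
      | (refine ⟨5, by norm_num, ?_, ?_⟩
         · (norm_num; done)
         · (intro i h1 h2; interval_cases i <;> norm_num))
      | (refine ⟨7, by norm_num, ?_, ?_⟩
         · (norm_num; done)
         · (intro i h1 h2; interval_cases i <;> norm_num))
  · obtain ⟨r, h1, h2, h3, -⟩ := CfsgLib.Recognition.Zsigmondy.exists_large_primitive (by omega) hq1 h
    exact ⟨r, h1, h2, h3⟩

variable {F : Type*} [Field F] [Fintype F]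

theorem exists_eq_algebraMap {L : Type*} [Field L] [Algebra F L] {x : L}
    (hx : x ^ (Fintype.card F - 1) = 1) : ∃ c : F, algebraMap F L c = x := by
  have hq1 : Fintype.card F - 1 ≠ 0 := by have := Fintype.one_lt_card (α := F); omega
  obtain ⟨g, hg⟩ := IsCyclic.exists_ofOrder_eq_natCard (α := Fˣ)
  rw [CfsgLib.Classical.card_units_eq rfl] at hg
  have hp : IsPrimitiveRoot (algebraMap F L g) (Fintype.card F - 1) := by
    refine IsPrimitiveRoot.map_of_injective ?_ (algebraMap F L).injective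
    rw [IsPrimitiveRoot.iff_orderOf, orderOf_units, hg]
  haveI : NeZero (Fintype.card F - 1) := ⟨hq1⟩
  obtain ⟨i, -, hi⟩ := hp.eq_pow_of_pow_eq_one hx
  exact ⟨(g : F) ^ i, by rw [map_pow, hi]⟩

theorem half_torus_forward {n m : ℕ} (hnm : n = 2 * m) (hm : 2 ≤ m) (hodd : Odd (Fintype.card F))
    (g : Matrix.ProjectiveSpecialLinearGroup (Fin n) F) (hg : orderOf g = Fintype.card F ^ m + 1) :
    Nat.gcd n (Fintype.card F - 1) ∣ ∑ i ∈ Finset.range m, Fintype.card F ^ i := by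
  set q := Fintype.card F with hq
  have hq2 : 2 ≤ q := Fintype.one_lt_card
  obtain ⟨p, hp⟩ := CharP.exists F
  haveI : Fact p.Prime := ⟨CharP.char_is_prime F p⟩
  obtain ⟨r, hr, hrn, hrmin⟩ := exists_primitive (n := n) (by omega) hodd hq2
  have hrN : r ∣ q ^ m + 1 := by
    have e : q ^ n - 1 = (q ^ m + 1) * (q ^ m - 1) := by
      rw [← Nat.sq_sub_sq, one_pow, ← pow_mul, hnm, mul_comm]
    rcases (Nat.Prime.dvd_mul hr).1 (e ▸ hrn) with h | h
    · exact h
    · exact absurd h (hrmin m (by omega) (by omega))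
  have hord : orderOf (q : ZMod r) = n := by
    have h1 := (orderOf_natCast_dvd_iff (r := r) (by omega : 1 ≤ q)).2 hrn
    have h0 : 0 < orderOf (q : ZMod r) := Nat.pos_of_dvd_of_pos h1 (by omega)
    rcases lt_or_eq_of_le (Nat.le_of_dvd (by omega) h1) with h | h
    · exact absurd ((orderOf_natCast_dvd_iff (by omega : 1 ≤ q)).1 dvd_rfl) (hrmin _ h0 h)
    · exact h
  obtain ⟨s, rfl⟩ := QuotientGroup.mk'_surjective _ g
  set A := (s : Matrix (Fin n) (Fin n) F) with hA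
  have hAs : orderOf A = orderOf s :=
    orderOf_injective ((Units.coeHom _).comp Matrix.SpecialLinearGroup.toGL) (fun a b hab => Subtype.ext hab) s
  have hrA : r ∣ orderOf A := hAs ▸ (hrN.trans (hg ▸ orderOf_map_dvd _ s))
  have hrp : r ≠ p := by
    intro e
    have hpq : p ∣ q := (CharP.cast_eq_zero_iff F p _).1 (FiniteField.cast_card_eq_zero F)
    have h1 : r ∣ q ^ m := dvd_pow (e ▸ hpq) (by omega)
    exact hr.ne_one (Nat.dvd_one.1 ((Nat.dvd_add_right h1).1 hrN))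
  obtain ⟨f, hf, hfm, hfd, hfp, -⟩ := exists_factor hr (natCast_ne_zero_of_ne (F := F) hr hrp)
    (hAs ▸ orderOf_pos s) hrA
  rw [← hq, hord] at hfd
  have hint : IsIntegral F A := Algebra.IsIntegral.isIntegral A
  set μ := minpoly F A with hμ
  have hμn : μ.natDegree = n := le_antisymm (natDegree_minpoly_le A)
    ((Nat.le_of_dvd hfp hfd).trans (natDegree_le_of_dvd hfm (minpoly.ne_zero hint)))
  haveI hirr : Fact (Irreducible μ) := by
    refine ⟨(Associated.irreducible_iff ?_).1 hf⟩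
    refine associated_of_dvd_of_natDegree_le hfm (minpoly.ne_zero hint) ?_
    rw [hμn]; exact Nat.le_of_dvd hfp hfd
  have hmon : μ.Monic := minpoly.monic hint
  have hchi : μ = A.charpoly := eq_of_monic_of_dvd_of_natDegree_le hmon (Matrix.charpoly_monic A)
    (Matrix.minpoly_dvd_charpoly A) (by rw [Matrix.charpoly_natDegree_eq_dim, Fintype.card_fin, hμn]) |>.symm
  let pb := AdjoinRoot.powerBasis hmon.ne_zero
  haveI : Module.Finite F (AdjoinRoot μ) := pb.finite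
  haveI : Finite (AdjoinRoot μ) := Module.finite_of_finite F
  haveI : Algebra.IsAlgebraic F (AdjoinRoot μ) := Algebra.IsAlgebraic.of_finite _ _
  letI : Fintype (AdjoinRoot μ) := Fintype.ofFinite _
  have hcard : Nat.card (AdjoinRoot μ) = q ^ n := by
    rw [Nat.card_eq_fintype_card, Module.card_eq_pow_finrank (K := F), pb.finrank, AdjoinRoot.powerBasis_dim, hμn]
  have hnorm : Algebra.norm F pb.gen = 1 := by
    rw [Algebra.PowerBasis.norm_gen_eq_coeff_zero_minpoly pb, AdjoinRoot.powerBasis_dim,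
      AdjoinRoot.minpoly_powerBasis_gen_of_monic hmon, hμn]
    have h1 := Matrix.det_eq_sign_charpoly_coeff A
    rw [Fintype.card_fin, hA, s.prop] at h1
    rw [hchi, hA, ← h1]
  set d := Nat.gcd n (q - 1) with hd
  obtain ⟨e, he⟩ : d ∣ q - 1 := Nat.gcd_dvd_right _ _
  set T := (q ^ n - 1) / (q - 1) with hT
  have hT' : T = (q ^ m + 1) * ∑ i ∈ Finset.range m, q ^ i := by
    have hS : (∑ i ∈ Finset.range m, q ^ i) * (q - 1) = q ^ m - 1 := by
      rw [Nat.geomSum_eq hq2, Nat.div_mul_cancel (Nat.sub_one_dvd_pow_sub_one q m)]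
    rw [hT, show q ^ n - 1 = (q ^ m + 1) * (q ^ m - 1) by rw [← Nat.sq_sub_sq, one_pow, ← pow_mul, hnm, mul_comm],
      ← hS, ← mul_assoc, Nat.mul_div_cancel _ (by omega)]
  have hdT : d ∣ T := by
    rw [hT, ← Nat.geomSum_eq hq2, geom_mod (by omega) ⟨e, he⟩]
    exact Nat.gcd_dvd_left _ _
  obtain ⟨T', hTT⟩ := hdT
  have hT1 : pb.gen ^ T = 1 := by
    have h1 := FiniteField.algebraMap_norm_eq_pow (K := F) (x := pb.gen)
    rw [hnorm, map_one, hcard, Nat.card_eq_fintype_card, ← hq, ← hT] at h1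
    exact h1.symm
  obtain ⟨c, hc⟩ := exists_eq_algebraMap (F := F) (x := pb.gen ^ T') (by
    rw [← hq, ← pow_mul, he, show T' * (d * e) = T * e by rw [hTT]; ring, pow_mul, hT1, one_pow])
  have hdvd : μ ∣ X ^ T' - C c := by
    rw [← AdjoinRoot.mk_eq_zero, map_sub, map_pow, AdjoinRoot.mk_X, AdjoinRoot.mk_C, sub_eq_zero]
    rw [AdjoinRoot.powerBasis_gen] at hc
    exact hc.symm
  obtain ⟨u, hu⟩ := hdvd
  have h0 := congrArg (aeval A) hu
  rw [map_mul, hμ, minpoly.aeval, zero_mul, map_sub, map_pow, aeval_X, aeval_C, sub_eq_zero,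
    Algebra.algebraMap_eq_smul_one] at h0
  have h2 := orderOf_dvd_of_pow_eq_one ((pslMk_pow_eq_one_iff s T').2 ⟨c, h0⟩)
  rw [show pslMk s = QuotientGroup.mk' _ s from rfl, hg] at h2
  have h3 : (q ^ m + 1) * d ∣ (q ^ m + 1) * ∑ i ∈ Finset.range m, q ^ i := by
    rw [← hT', hTT, mul_comm _ d]
    exact Nat.mul_dvd_mul_left d h2
  exact (Nat.mul_dvd_mul_iff_left (by omega)).1 h3

theorem half_torus_backward {n m : ℕ} (hnm : n = 2 * m) (hm : 1 ≤ m)
    (hdS : Nat.gcd n (Fintype.card F - 1) ∣ ∑ i ∈ Finset.range m, Fintype.card F ^ i) :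
    ∃ g : Matrix.ProjectiveSpecialLinearGroup (Fin n) F, orderOf g = Fintype.card F ^ m + 1 := by
  set q := Fintype.card F with hq
  have hq2 : 2 ≤ q := Fintype.one_lt_card
  set d := Nat.gcd n (q - 1) with hd
  obtain ⟨S', hS'⟩ := hdS
  have hd0 : d ≠ 0 := fun e => by rw [hd, Nat.gcd_eq_zero_iff] at e; omega
  have hS : (∑ i ∈ Finset.range m, q ^ i) * (q - 1) = q ^ m - 1 := by
    rw [Nat.geomSum_eq hq2, Nat.div_mul_cancel (Nat.sub_one_dvd_pow_sub_one q m)]
  have hqn : q ^ n - 1 = (q ^ m + 1) * d * (S' * (q - 1)) := by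
    rw [show q ^ n - 1 = (q ^ m + 1) * (q ^ m - 1) by rw [← Nat.sq_sub_sq, one_pow, ← pow_mul, hnm, mul_comm],
      ← hS, hS']
    ring
  obtain ⟨L, _, _, _, φ, hfr, hcard, hinj, hdet⟩ := exists_extension_matrix (F := F) n (by omega)
  haveI : Module.Finite F L := Module.finite_of_finrank_pos (by omega)
  obtain ⟨g, hg⟩ := IsCyclic.exists_ofOrder_eq_natCard (α := Lˣ)
  rw [Nat.card_units, Nat.card_eq_fintype_card, hcard, ← hq] at hg
  have h0 : S' * (q - 1) ≠ 0 := by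
    intro e
    rw [e, mul_zero] at hqn
    have : 1 < q ^ n := Nat.one_lt_pow (by omega) (by omega)
    omega
  set z : L := ((g ^ (S' * (q - 1)) : Lˣ) : L) with hzdef
  have hz : orderOf z = (q ^ m + 1) * d := by
    rw [hzdef, orderOf_units, orderOf_pow_of_dvd h0 (hg.symm ▸ hqn ▸ dvd_mul_left _ _), hg, hqn,
      Nat.mul_div_cancel _ (Nat.pos_of_ne_zero h0)]
  have hN : (φ z).det = 1 := by
    rw [hdet]
    apply (algebraMap F L).injective
    rw [map_one, FiniteField.algebraMap_norm_eq_pow, Nat.card_eq_fintype_card, Nat.card_eq_fintype_card, hcard,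
      ← hq, ← orderOf_dvd_iff_pow_eq_one, hz, hqn, ← mul_assoc, Nat.mul_div_cancel _ (by omega)]
    exact dvd_mul_right _ _
  refine ⟨pslMk ⟨φ z, hN⟩, orderOf_pslMk_eq ?_ ?_⟩
  · obtain ⟨e, he⟩ : d ∣ q - 1 := Nat.gcd_dvd_right _ _
    obtain ⟨c, hc⟩ := exists_eq_algebraMap (F := F) (x := z ^ (q ^ m + 1)) (by
      rw [← hq, ← pow_mul, ← orderOf_dvd_iff_pow_eq_one, hz, he, ← mul_assoc]
      exact dvd_mul_right _ _)
    exact ⟨c, by
      show φ z ^ _ = _
      rw [← map_pow, ← hc, AlgHom.commutes, Algebra.algebraMap_eq_smul_one]⟩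
  · intro j c hj
    replace hj : z ^ j = algebraMap F L c := hinj (by
      rw [map_pow, AlgHom.commutes, Algebra.algebraMap_eq_smul_one]; exact hj)
    have hc0 : c ≠ 0 := by
      intro e
      rw [e, map_zero] at hj
      exact pow_ne_zero j (Units.ne_zero _) hj
    have h1 : (q ^ m + 1) * d ∣ j * (q - 1) := by
      rw [← hz, orderOf_dvd_iff_pow_eq_one, pow_mul, hj, ← map_pow, hq,
        FiniteField.pow_card_sub_one_eq_one c hc0, map_one]
    have h2 : d = Nat.gcd ((q ^ m + 1) * d) (q - 1) := by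
      refine Nat.dvd_antisymm (Nat.dvd_gcd (dvd_mul_left _ _) (Nat.gcd_dvd_right _ _)) ?_
      refine Nat.dvd_gcd ?_ (Nat.gcd_dvd_right _ _)
      have h3 : Nat.gcd ((q ^ m + 1) * d) (q - 1) ∣ ∑ i ∈ Finset.range n, q ^ i := by
        refine (Nat.gcd_dvd_left _ _).trans ⟨S', ?_⟩
        rw [Nat.geomSum_eq hq2, hqn, ← mul_assoc, Nat.mul_div_cancel _ (by omega)]
      exact (geom_mod (by omega) (Nat.gcd_dvd_right _ _)).1 h3
    have h4 : (q ^ m + 1) * d ∣ j * d := by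
      conv_rhs => rw [h2, ← Nat.gcd_mul_left]
      exact Nat.dvd_gcd (dvd_mul_left _ _) h1
    exact (Nat.mul_dvd_mul_iff_right (Nat.pos_of_ne_zero hd0)).1 h4

end CfsgLib.PrimeGraphPSL
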